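import Cfsg.Agent.H831.DG.PermAut
import Cfsg.Agent.H994.TwoGen.Words
import Cfsg.Agent.OddHalf.Table.OutJ2
import Cfsg.Agent.S2066

/-!
# S4180: `Cos2` for the Hall–Janko group (helper831)

`J2` on 100 points, `u` the odd involution commuting with `x` and `f`; `J2 = ⟨xy, u xy u⟩`.
-/

set_option autoImplicit false
set_option maxRecDepth 100000

namespace Cfsg.Agent.H831.DG.J2Row

open Cfsg.Agent.H891.DG Cfsg.Agent.H831.DG.CosTwo Cfsg.Agent.H831.DG.PermAut Cfsg.Agent.H994.TwoGen.Words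
open Equiv Cfsg.Agent.SporadicA.PermTab Cfsg.Agent.SporadicA.J2Data Cfsg.Agent.SporadicA.J2Hundred
  Cfsg.Agent.OddHalf.Table.CentTab Cfsg.Agent.OddHalf.Table.J2OutData Cfsg.Agent.OddHalf.Table.OutJ2

universe v

theorem u_inv : u⁻¹ = u := inv_eq_of_mul_eq_one_left u2

theorem uy : u * y * u⁻¹ = y * f ^ 3 := by
  rw [u_inv]
  have h := pw_eq gen_val (L := [8, 7, 8]) (M := [7, 6, 6, 6]) (by decide +kernel)
  simpa only [pw_cons, pw_nil, mul_one, pow_succ, pow_zero, one_mul, mul_assoc] using h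

theorem uxu : u * x * u⁻¹ = x := by rw [ux, mul_inv_cancel_right]
theorem ufu : u * f * u⁻¹ = f := by rw [uf, mul_inv_cancel_right]

theorem conj_G : ∀ z ∈ G, u * z * u⁻¹ ∈ G := by
  have h : G ≤ G.comap (MulAut.conj u).toMonoidHom := by
    refine le_closure ?_ ?_ ?_
    · show u * x * u⁻¹ ∈ G
      rw [uxu]; exact x_mem
    · show u * f * u⁻¹ ∈ G
      rw [ufu]; exact f_mem
    · show u * y * u⁻¹ ∈ G
      rw [uy]; exact mul_mem y_mem (pow_mem f_mem 3)
  exact fun z hz => h hz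

/-- `xy` -/
def wA : List ℕ := [5, 7]
def wAi : List ℕ := [7, 5, 5, 5, 5, 5, 5]
def wB : List ℕ := [8, 5, 7, 8]
def wBi : List ℕ := [8, 7, 5, 5, 5, 5, 5, 5, 8]

theorem of_eq {L M : List ℕ} (h : chkW 100 tab L M = true) : val gen L = val gen M := pw_eq gen_val h

theorem val_nil' : val gen [] = 1 := pw_nil

theorem chk_A : val gen (wA ++ wAi) = 1 := (of_eq (M := []) (by decide +kernel)).trans val_nil'
theorem chk_B : val gen (wB ++ wBi) = 1 := (of_eq (M := []) (by decide +kernel)).trans val_nil'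

theorem mem_of {w : List ℕ} {k : ℕ} (h : chkW 100 tab (expand wA wB wAi wBi w) [k] = true) :
    gen k ∈ Subgroup.closure ({val gen wA, val gen wB} : Set (Perm (Fin 100))) := by
  have h1 : gen k = val gen (expand wA wB wAi wBi w) := ((pw1 k).symm.trans (of_eq h).symm)
  rw [h1]
  exact expand_mem gen chk_A chk_B w

theorem val_A : val gen wA = x * y := pw2 5 7

theorem val_B : val gen wB = u * (x * y) * u⁻¹ := by
  rw [u_inv]
  change pw gen [8, 5, 7, 8] = _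
  simp only [pw_cons, pw_nil, mul_one, mul_assoc]

theorem gen_le : G ≤ Subgroup.closure ({x * y, u * (x * y) * u⁻¹} : Set (Perm (Fin 100))) := by
  rw [← val_B, ← val_A]
  refine le_closure (mem_of (w := [3, 0, 1, 2, 3, 0, 1, 2, 3, 0, 1, 2]) ?_)
    (mem_of (w := [0, 0, 1, 1, 0, 0, 1, 1, 2, 2, 3, 3, 0, 0, 0, 1, 0]) ?_)
    (mem_of (w := [1, 2, 3, 0, 1, 2, 3, 0, 1, 2, 3, 0, 0]) ?_) <;> decide +kernel

theorem outer : ∀ r ∈ G, ¬ ∀ z ∈ G, u * z * u⁻¹ = r * z * r⁻¹ := by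
  intro r hr h
  have hx := h x x_mem
  rw [uxu] at hx
  have hf := h f f_mem
  rw [ufu] at hf
  obtain ⟨i, hi⟩ := cent_x hr (mul_inv_eq_iff_eq_mul.1 hx.symm)
  have h1 : f * r * f⁻¹ = r := by
    have h2 : r * f = f * r := mul_inv_eq_iff_eq_mul.1 hf.symm
    rw [← h2, mul_inv_cancel_right]
  have h2 : f * r * f⁻¹ = r ^ 3 := by
    rw [hi, ← conj_pow, fx, ← pow_mul, ← pow_mul, Nat.mul_comm]
  have h3 : r ^ 2 = 1 := by
    rw [h1] at h2
    have h4 : r * r ^ 2 = r * 1 := by rw [← pow_succ', mul_one]; exact h2.symm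
    exact mul_left_cancel h4
  have h4 : r ^ 7 = 1 := by rw [hi, ← pow_mul, Nat.mul_comm, pow_mul, x7, one_pow]
  have h5 : r = 1 := by
    have h6 : r ^ 7 = (r ^ 2) ^ 3 * r := by rw [← pow_mul, ← pow_succ]
    rw [h6, h3, one_pow, one_mul] at h4
    exact h4
  have hy := h y y_mem
  rw [uy, h5, one_mul, inv_one, mul_one] at hy
  exact f3_ne (mul_left_cancel (hy.trans (mul_one y).symm))

/-- **Row `J2` of `Cos2`.** -/
theorem cos2_j2 {T : Type v} [Group T] (h : Cfsg.Spor.IsoJ2 T) : Cos2 T := by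
  obtain ⟨e⟩ := h
  obtain ⟨g⟩ := Cfsg.Agent.J2.HundredGens.J2_iso Cfsg.Agent.S1619.result.2.2.2
  refine cos2_congr (e.trans g).symm (cos2_of_conj G ?_ u u2 conj_G outer (mul_mem x_mem y_mem) gen_le)
  rw [Cfsg.Agent.H55.OutGen.card_out_congr g.symm]
  exact Cfsg.Agent.S2066.result

end Cfsg.Agent.H831.DG.J2Row
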