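import Cfsg.Agent.H831.DG.CosTwo
import Cfsg.Agent.H440.TwoGen.JThree
import Cfsg.Agent.H55.JThreeOut
import Cfsg.Agent.S2067

/-!
# S4180: `Cos2` for the Janko group `J3` (helper831)

`3·J3 = ⟨t, φ t⟩` with `t = c d_i d_i b_{1+i}` of order 5, `φ` the semilinear automorphism.
-/

set_option autoImplicit false
set_option maxRecDepth 100000

namespace Cfsg.Agent.H831.DG.J3Row

open Cfsg.Agent.H440.TwoGen Cfsg.Agent.H891.DG Cfsg.Agent.H831.DG.CosTwo
open Cfsg.Spor Cfsg.Agent.J3.Core Cfsg.Agent.J3.Tab Cfsg.Agent.J3.Mono Cfsg.Agent.J3.Elts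
open Cfsg.Agent.Lib.BitSet Cfsg.Agent.J3.Order Cfsg.Agent.J3.Nineteen Cfsg.Agent.J3.Simple Matrix
open Cfsg.Agent.H55.JThree Cfsg.Agent.H55

universe u

/-- table of `t` -/
def tT : List ℕ := compT tC (compT (tD j) (compT (tD j) (tB u0)))
/-- table of `φ t` -/
def tU : List ℕ := compT tC (compT (tD (0, 2)) (compT (tD (0, 2)) (tB (1, 2))))

/-- tables of the letters `t, φ t, t⁻¹, (φ t)⁻¹` -/
def tl : ℕ → List ℕ
  | 0 => tT
  | 1 => tU
  | 2 => powT tT 4
  | _ => powT tU 4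

/-- table of a word -/
def evT : List ℕ → List ℕ
  | [] => tS 0
  | l :: w => compT (tl l) (evT w)

/-- word for `B_{1+i}` -/
def wP : List ℕ := [2, 1, 2, 2, 3, 2, 3, 0, 1, 0, 3, 0, 0, 1, 0, 3, 2, 2, 1]
/-- word for `C_1 D_i` -/
def wQ : List ℕ := [2, 2, 3, 2, 3, 0, 3, 0, 3, 0, 0, 1, 0, 3, 3, 0, 3, 0, 0]

theorem chk_P : beqL (cols (evT wP)) (cols (tB u0)) = true := by decide +kernel
theorem chk_Q : beqL (cols (evT wQ)) (cols (compT tC (tD j))) = true := by decide +kernel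

section
variable {F : Type*} [Field F] {ω : F}

/-- the element `t` -/
def te (G : Gens F ω) : threeJ3 F ω := G.c * (G.d j * (G.d j * G.b u0))
/-- the element `φ t` -/
def ue (G : Gens F ω) : threeJ3 F ω := G.c * (G.d (0, 2) * (G.d (0, 2) * G.b (1, 2)))

/-- the letters as group elements -/
def xl (G : Gens F ω) : ℕ → threeJ3 F ω
  | 0 => te G
  | 1 => ue G
  | 2 => te G ^ 4
  | _ => ue G ^ 4

theorem rep_t (H : Good ω) (G : Gens F ω) : RepG ω tT (te G) :=
  (rC G H).mul ((rD G H j).mul ((rD G H j).mul (rB G H u0 u0_ne)))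

theorem rep_u (H : Good ω) (G : Gens F ω) : RepG ω tU (ue G) :=
  (rC G H).mul ((rD G H (0, 2)).mul ((rD G H (0, 2)).mul (rB G H (1, 2) (by decide))))

theorem rep_l (H : Good ω) (G : Gens F ω) (l : ℕ) : RepG ω (tl l) (xl G l) := by
  match l with
  | 0 => exact rep_t H G
  | 1 => exact rep_u H G
  | 2 => exact (rep_t H G).pow H 4
  | n + 3 => exact (rep_u H G).pow H 4

theorem rep_w (H : Good ω) (G : Gens F ω) (w : List ℕ) : RepG ω (evT w) (w.map (xl G)).prod := by
  induction w with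
  | nil => exact repG_one H
  | cons l w ih =>
    rw [List.map_cons, List.prod_cons]
    exact (rep_l H G l).mul ih

theorem mem_w (G : Gens F ω) {N : Subgroup (threeJ3 F ω)} (hP : te G ∈ N) (hQ : ue G ∈ N)
    (w : List ℕ) : (w.map (xl G)).prod ∈ N := by
  apply Subgroup.list_prod_mem
  intro y hy
  obtain ⟨l, -, rfl⟩ := List.mem_map.1 hy
  match l with
  | 0 => exact hP
  | 1 => exact hQ
  | 2 => exact N.pow_mem hP 4
  | n + 3 => exact N.pow_mem hQ 4

theorem closure_eq (H : Good ω) (G : Gens F ω) :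
    Subgroup.closure ({te G, ue G} : Set (threeJ3 F ω)) = ⊤ := by
  rw [eq_top_iff, ← Cfsg.Agent.H440.TwoGen.JThree.closure_eq H G, Subgroup.closure_le]
  have hP : te G ∈ Subgroup.closure ({te G, ue G} : Set (threeJ3 F ω)) := Subgroup.subset_closure (by simp)
  have hQ : ue G ∈ Subgroup.closure ({te G, ue G} : Set (threeJ3 F ω)) := Subgroup.subset_closure (by simp)
  rintro z (rfl | hz)
  · rw [← (rep_w H G wP).ext (rB G H u0 u0_ne) (beqL_eq chk_P)]
    exact mem_w G hP hQ wP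
  · rw [Set.mem_singleton_iff] at hz
    subst hz
    rw [← (rep_w H G wQ).ext ((rC G H).mul (rD G H j)) (beqL_eq chk_Q)]
    exact mem_w G hP hQ wQ

theorem phi_t [Fintype F] (hF : Fintype.card F = 4) (H : Good ω) (G : Gens F ω) : phi hF H (te G) = ue G := by
  apply mat_injective
  rw [mat_phi, te, ue]
  simp only [map_mul]
  rw [G.hc, G.hd, G.hd, G.hb u0 u0_ne, G.hb (1, 2) (by decide), phiM_C, phiM_D, phiM_B]
  rfl

theorem cos2 [Fintype F] (hF : Fintype.card F = 4) (hω : ω ^ 2 + ω + 1 = 0) : Cos2 (J3 F ω) := by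
  have H := good_of_card hF hω
  obtain ⟨G⟩ := exists_gens hF H
  refine cos2_of_swap (Cfsg.Agent.S2067.result hF ω hω) (α := OutGen.centerQuot (phi hF H))
    (OutGen.centerQuot_not_inner (hom_center hF H) (phi_not_inner hF H))
    (QuotientGroup.mk' (Subgroup.center (threeJ3 F ω)) (te G)) ?_
  have h1 : OutGen.centerQuot (phi hF H) (QuotientGroup.mk' (Subgroup.center (threeJ3 F ω)) (te G)) =
      QuotientGroup.mk' (Subgroup.center (threeJ3 F ω)) (ue G) := by
    rw [← phi_t hF H G]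
    exact OutGen.centerQuot_mk (phi hF H) (te G)
  rw [h1, ← Set.image_pair, ← MonoidHom.map_closure, closure_eq H G, ← MonoidHom.range_eq_map,
    MonoidHom.range_eq_top.2 (QuotientGroup.mk'_surjective _)]

end

/-- **Row `J3` of `Cos2`.** -/
theorem cos2_j3 {T : Type u} [Group T] (h : Cfsg.Spor.IsoJ3 T) : Cos2 T := by
  obtain ⟨F, _, _, ω, hF, hω, ⟨e⟩⟩ := h
  exact cos2_congr e.symm (cos2 hF hω)

end Cfsg.Agent.H831.DG.J3Row
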