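import Cfsg.Agent.H831.DG.PermAut
import Cfsg.Agent.H994.TwoGen.Words
import Cfsg.Agent.McLType.Model
import Cfsg.Agent.TypeM.FactsMcL
import Cfsg.Agent.S2073

/-!
# S4180: `Cos2` for the McLaughlin group (helper831)

`McL` on the 275 points of the McLaughlin graph; `Z` is an involution of `McL.2` with 11 fixed points.
-/

set_option autoImplicit false
set_option maxRecDepth 100000

namespace Cfsg.Agent.H831.DG.McLRow

open Cfsg Cfsg.Agent.H891.DG Cfsg.Agent.H831.DG.CosTwo Cfsg.Agent.H831.DG.PermAut Cfsg.Agent.H994.TwoGen.Words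
open Cfsg.Agent.McLType.Gens Cfsg.Agent.McLType.Chain Cfsg.Agent.McLType.Model Cfsg.Agent.SporadicStructure.PermChain
open Cfsg.Agent.McLType.X275

universe u

/-- table of the outer involution -/
def tabZ : ℕ := 0x1917e5b69c39406d6c0dc24fb55b660a827904588ec630fd506b8417d2a5631235e8f54340c3281268b9070060b20cc02399d5b8030ba71142b579805ae5081ea0d0b27971808e8799cf668478c91016099d818ea583fc1d0161b09d6d588acd7ab41a1215a381412cc6bc5f10c5ec76f851720d839f4a4fd3f2994a6f389fc490d109444ae21e820b05a2b86df25e0f1dc306e67b51ec8c1838452cd43bcd002276c11e0855129d547068b68804449329cc4273881467c52242181a7e0188ed0693a495125abdc76de7d25092d688260b2994bbe0383611aa53c466b915de155b194baba349409c78591d012797f0113600308b062b8851500abb15338728b58bb9ba3a700cd12b70e8293aa129a113e7203a4c4e554b1b1e29171b3098ae65c2604db07b1558c900898829a0f9a86a3e723a0163c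

theorem permZ : permCheck 9 275 tabZ tabZ = true := by decide +kernel

/-- the outer involution -/
def Z : Equiv.Perm (Fin 275) := mkPerm 9 275 tabZ tabZ permZ

/-- the eight tables -/
def tb : List ℕ := [tab_a, tab_b, tab_c, tab_x, tab_y, tab_w, tab_g, tabZ]

/-- the eight permutations -/
def m : Fin 8 → Equiv.Perm (Fin 275)
  | 0 => σ 0
  | 1 => σ 1
  | 2 => σ 2
  | 3 => σ 3
  | 4 => σ 4
  | 5 => σ 5
  | 6 => σ 6
  | 7 => Z

theorem m_spec (k : Fin 8) (i : Fin 275) : (m k i : ℕ) = look 9 (tb.getD k 0) i := by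
  fin_cases k <;> rfl

/-- the value of a word at a point -/
def ev (w : List (Fin 8)) (i : ℕ) : ℕ := evalWord 9 tb (w.map (fun k => (k : ℕ))) i

theorem ev_spec (w : List (Fin 8)) (i : Fin 275) : ((val m w) i : ℕ) = ev w i := by
  induction w with
  | nil => rfl
  | cons s w ih =>
    unfold val at ih ⊢
    rw [List.map_cons, List.prod_cons, Equiv.Perm.mul_apply, m_spec, ih]
    rfl

/-- the word acts trivially -/
def chk (w : List (Fin 8)) : Bool := allBelow (fun i => Nat.beq (ev w i) i) 275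

theorem of_chk {w : List (Fin 8)} (h : chk w = true) : val m w = 1 := by
  refine Equiv.ext fun i => Fin.ext ?_
  rw [ev_spec]
  exact Nat.eq_of_beq_eq_true (allBelow_spec _ _ h i i.2)

/-- the McLaughlin group -/
def R : Subgroup (Equiv.Perm (Fin 275)) := Subgroup.closure (Set.range σ)

theorem σ_mem (k : Fin 7) : σ k ∈ R := Subgroup.subset_closure ⟨k, rfl⟩

theorem isoMcL_R : Cfsg.Spor.IsoMcL R := by
  obtain ⟨e'⟩ := isoMcL_G1
  have h1 : (⊤ : Subgroup G1).map ψ = R := by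
    rw [← closure_m, MonoidHom.map_closure, ← Set.range_comp, R]
    congr 2
    funext k
    exact ψ_m k
  have e1 : G1 ≃* (⊤ : Subgroup G1) := Subgroup.topEquiv.symm
  have e2 : (⊤ : Subgroup G1) ≃* (⊤ : Subgroup G1).map ψ := (⊤ : Subgroup G1).equivMapOfInjective ψ ψ_injective
  exact ⟨((MulEquiv.subgroupCongr h1).symm.trans (e2.symm.trans e1.symm)).trans e'⟩

theorem ZZ : Z * Z = 1 := by
  have h : val m [7, 7] = 1 := of_chk (by decide +kernel)
  have h1 : val m [7, 7] = Z * Z := by simp [val, m]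
  rw [← h1, h]

theorem Z_inv : Z⁻¹ = Z := inv_eq_of_mul_eq_one_left ZZ

/-- words for the conjugates -/
def cw : Fin 7 → List (Fin 8)
  | 0 => [1, 4, 5, 4, 3, 6, 4, 5, 0, 6, 2, 3, 4, 5, 4]
  | 1 => [0, 1, 4, 3, 6, 3, 5, 0, 6, 2, 0, 5, 3, 0, 6, 3]
  | 2 => [2, 4, 1, 0, 6, 5, 3, 6, 3, 6, 0, 5, 6, 1, 4]
  | 3 => [4, 5, 3, 2, 6, 4, 3, 4, 5, 4, 6, 3, 5, 4, 6, 5, 4]
  | 4 => [5, 4, 6, 4, 3, 6, 1, 2, 5, 6, 5, 3, 6, 4, 5, 1, 6]
  | 5 => [1, 4, 3, 6, 3, 6, 5, 0, 6, 3, 5, 6, 3, 6, 3]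
  | 6 => [3, 6, 3, 4, 5, 3, 6, 3, 2, 4, 3, 6, 3, 5, 4, 3, 6, 3]

/-- the letter -/
def lt (k : Fin 7) : Fin 8 := k.castSucc

theorem m_lt (k : Fin 7) : m (lt k) = σ k := by fin_cases k <;> rfl

theorem m_mem {k : Fin 8} (hk : k ≠ 7) : m k ∈ R := by
  fin_cases k
  · exact σ_mem 0
  · exact σ_mem 1
  · exact σ_mem 2
  · exact σ_mem 3
  · exact σ_mem 4
  · exact σ_mem 5
  · exact σ_mem 6
  · exact absurd rfl hk

theorem val_mem : ∀ {w : List (Fin 8)}, (∀ k ∈ w, k ≠ 7) → val m w ∈ R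
  | [], _ => by
    show ((([] : List (Fin 8)).map m).prod) ∈ R
    rw [List.map_nil, List.prod_nil]
    exact R.one_mem
  | k :: w, h => by
    have h1 : val m (k :: w) = m k * val m w := by simp [val]
    rw [h1]
    exact R.mul_mem (m_mem (h k (by simp))) (val_mem fun j hj => h j (by simp [hj]))

theorem cw_chk (k : Fin 7) : chk ([7, lt k, 7] ++ (cw k).reverse) = true := by
  fin_cases k <;> decide +kernel

theorem cw_ok (k : Fin 7) : ∀ j ∈ (cw k).reverse, j ≠ 7 := by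
  fin_cases k <;> decide

theorem conj_gen (k : Fin 7) : Z * σ k * Z⁻¹ ∈ R := by
  have h := of_chk (cw_chk k)
  rw [val_append] at h
  have h1 : val m [7, lt k, 7] = Z * σ k * Z⁻¹ := by
    rw [Z_inv, ← m_lt]
    simp [val, m, mul_assoc]
  rw [h1, mul_eq_one_iff_eq_inv] at h
  rw [h]
  exact R.inv_mem (val_mem (cw_ok k))

theorem conj_R : ∀ x ∈ R, Z * x * Z⁻¹ ∈ R := conj_mem_of_gens rfl (by
  rintro _ ⟨k, rfl⟩
  exact conj_gen k)

/-- the element `t` -/
def wX : List (Fin 8) := [2, 6, 4]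
/-- the inverse of `t` -/
def wXi : List (Fin 8) := [4, 6, 2]
/-- `Z t Z` -/
def wY : List (Fin 8) := [7, 2, 6, 4, 7]
/-- the inverse -/
def wYi : List (Fin 8) := [7, 4, 6, 2, 7]

/-- words for the seven involutions in the two elements -/
def W : Fin 7 → List ℕ
  | 0 => [2, 1, 0, 3, 0, 3, 3, 2, 1, 2, 3, 3, 0, 3, 0, 1, 2, 2]
  | 1 => [2, 2, 2, 3, 0, 3, 2, 2, 1, 1, 2, 2, 2, 3, 3, 2, 2, 3, 0, 3]
  | 2 => [0, 0, 0]
  | 3 => [2, 2, 1, 1, 0, 0, 1, 0, 1, 2, 1, 1, 0, 0, 0, 3, 3, 2]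
  | 4 => [2, 2, 3, 3, 2, 2, 2, 1, 1, 0, 0, 0, 3, 3]
  | 5 => [2, 2, 1, 2, 1, 2, 3, 0, 1, 0, 3, 0, 1, 1, 0, 0, 3, 3]
  | 6 => [3, 3, 2, 2, 2, 1, 1, 0, 0, 0, 3, 3, 2, 2]

theorem chk_X : chk (wX ++ wXi) = true := by decide +kernel
theorem chk_Y : chk (wY ++ wYi) = true := by decide +kernel
theorem chk_W (k : Fin 7) : chk (expand wX wY wXi wYi (W k) ++ [lt k]) = true := by
  fin_cases k <;> decide +kernel

theorem val_Y : val m wY = Z * val m wX * Z⁻¹ := by
  rw [Z_inv]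
  simp [val, m, wX, wY, mul_assoc]

theorem gen : R ≤ Subgroup.closure ({val m wX, Z * val m wX * Z⁻¹} : Set (Equiv.Perm (Fin 275))) := by
  rw [← val_Y, R, Subgroup.closure_le]
  rintro _ ⟨k, rfl⟩
  rw [← m_lt]
  exact mem_of_word m (of_chk chk_X) (of_chk chk_Y) (of_chk (chk_W k))

/-! ### `Z` induces an outer automorphism -/

theorem in_R : ∀ t ∈ tabs, InK 9 R t := inK0

theorem exists_of (y : Fin 275) : ∃ g ∈ R, g 0 = y := by
  have h1 : MaskIn R 0 mask0 := by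
    rw [← Nat.eq_of_beq_eq_true orb0]
    exact maskIn_grow R 0 tabs in_R _ _ (maskIn_single R 0)
  have h2 : Nat.testBit mask0 (y : ℕ) = true := by
    have h3 : allBelow (fun i => Nat.testBit mask0 i) 275 = true := by decide +kernel
    exact allBelow_spec _ _ h3 y y.2
  obtain ⟨hy, g, hg, h3⟩ := h1 _ h2
  exact ⟨g, hg, h3⟩

/-- the element `σ 0 σ 1 σ 2` fixes only the point 0 -/
theorem fix_zero {i : Fin 275} (h : val m [0, 1, 2] i = i) : i = 0 := by
  have h1 : allBelow (fun i => cond (Nat.beq (ev [0, 1, 2] i) i) (Nat.beq i 0) true) 275 = true := by decide +kernel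
  have h2 := allBelow_spec _ _ h1 i i.2
  have h3 : Nat.beq (ev [0, 1, 2] i) i = true := by
    rw [← ev_spec, h]
    exact Nat.beq_refl _
  rw [h3] at h2
  exact Fin.ext (Nat.eq_of_beq_eq_true h2)

/-- the centralizer of `R` is trivial -/
theorem cent {c : Equiv.Perm (Fin 275)} (hc : ∀ x ∈ R, c * x = x * c) : c = 1 := by
  have h0 : c 0 = 0 := by
    apply fix_zero
    have hm : val m [0, 1, 2] ∈ R := val_mem (by decide)
    have h1 := hc _ hm
    have h2 : val m [0, 1, 2] 0 = 0 := Fin.ext (by rw [ev_spec]; decide +kernel)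
    rw [← Equiv.Perm.mul_apply, ← h1, Equiv.Perm.mul_apply, h2]
  refine Equiv.ext fun y => ?_
  obtain ⟨g, hg, rfl⟩ := exists_of y
  rw [← Equiv.Perm.mul_apply, hc g hg, Equiv.Perm.mul_apply, h0]
  rfl

/-- number of fixed points -/
def fx (τ : Equiv.Perm (Fin 275)) : ℕ := (Finset.univ.filter fun i => τ i = i).card

theorem fx_one : fx 1 = 275 := by
  have h : (Finset.univ.filter fun i : Fin 275 => (1 : Equiv.Perm (Fin 275)) i = i) = Finset.univ :=
    Finset.filter_true_of_mem (fun i _ => rfl)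
  rw [fx, h, Finset.card_univ, Fintype.card_fin]

theorem inv_app (g : Equiv.Perm (Fin 275)) (i : Fin 275) : g⁻¹ (g i) = i := by
  rw [← Equiv.Perm.mul_apply, inv_mul_cancel]; rfl

theorem app_inv (g : Equiv.Perm (Fin 275)) (i : Fin 275) : g (g⁻¹ i) = i := by
  rw [← Equiv.Perm.mul_apply, mul_inv_cancel]; rfl

theorem fx_conj (g τ : Equiv.Perm (Fin 275)) : fx (g * τ * g⁻¹) = fx τ := by
  unfold fx
  refine (Finset.card_bij (fun i _ => g i) ?_ ?_ ?_).symm
  · intro i hi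
    rw [Finset.mem_filter] at hi ⊢
    refine ⟨Finset.mem_univ _, ?_⟩
    rw [Equiv.Perm.mul_apply, Equiv.Perm.mul_apply, inv_app, hi.2]
  · intro i _ j _ h
    exact g.injective h
  · intro i hi
    rw [Finset.mem_filter] at hi
    refine ⟨g⁻¹ i, ?_, app_inv g i⟩
    rw [Finset.mem_filter]
    refine ⟨Finset.mem_univ _, ?_⟩
    have h := hi.2
    rw [Equiv.Perm.mul_apply, Equiv.Perm.mul_apply] at h
    rw [Equiv.Perm.eq_inv_iff_eq, h]

theorem fx_Z : fx Z = 11 := by decide +kernel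
theorem fx_0 : fx (σ 0) = 35 := by decide +kernel

theorem Z_notMem : Z ∉ R := by
  intro hZ
  obtain ⟨hfin, hsimple, hcard, ⟨L⟩⟩ := Cfsg.Agent.TypeM.FactsMcL.facts isoMcL_R
  have h1 : (⟨Z, hZ⟩ : R) ≠ 1 := by
    intro h
    have h2 : Z = 1 := congrArg Subtype.val h
    have h3 := fx_Z
    rw [h2] at h3
    rw [fx_one] at h3
    omega
  have h2 : (⟨σ 0, σ_mem 0⟩ : R) ≠ 1 := by
    intro h
    have h2 : σ 0 = 1 := congrArg Subtype.val h
    have h3 := fx_0
    rw [h2] at h3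
    rw [fx_one] at h3
    omega
  have h3 : σ 0 * σ 0 = 1 := by
    have h : val m [0, 0] = 1 := of_chk (by decide +kernel)
    have h1 : val m [0, 0] = σ 0 * σ 0 := by simp [val, m]
    rw [← h1, h]
  obtain ⟨g, hg⟩ := L.one ⟨Z, hZ⟩ (Subtype.ext ZZ) h1
  obtain ⟨g', hg'⟩ := L.one ⟨σ 0, σ_mem 0⟩ (Subtype.ext h3) h2
  have e1 : fx Z = fx (L.t : Equiv.Perm (Fin 275)) := by
    rw [← fx_conj g (L.t : Equiv.Perm (Fin 275))]
    exact congrArg (fun s : R => fx (s : Equiv.Perm (Fin 275))) hg.symm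
  have e2 : fx (σ 0) = fx (L.t : Equiv.Perm (Fin 275)) := by
    rw [← fx_conj g' (L.t : Equiv.Perm (Fin 275))]
    exact congrArg (fun s : R => fx (s : Equiv.Perm (Fin 275))) hg'.symm
  rw [← e2, fx_Z, fx_0] at e1
  omega

theorem outer : ∀ r ∈ R, ¬ ∀ x ∈ R, Z * x * Z⁻¹ = r * x * r⁻¹ := by
  intro r hr h
  apply Z_notMem
  have h1 : r⁻¹ * Z = 1 := by
    apply cent
    intro x hx
    have h2 := h x hx
    calc r⁻¹ * Z * x = r⁻¹ * (Z * x * Z⁻¹) * Z := by group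
      _ = r⁻¹ * (r * x * r⁻¹) * Z := by rw [h2]
      _ = x * (r⁻¹ * Z) := by group
  rw [inv_mul_eq_one] at h1
  rw [← h1]
  exact hr

/-- **Row `McL` of `Cos2`.** -/
theorem cos2_mcl {T : Type u} [Group T] (h : Cfsg.Spor.IsoMcL T) : Cos2 T := by
  obtain ⟨e⟩ := h
  obtain ⟨f⟩ := isoMcL_R
  refine cos2_congr (f.trans e.symm) (cos2_of_conj R ?_ Z ZZ conj_R outer (val_mem (w := wX) (by decide)) gen)
  rw [Cfsg.Agent.H55.OutGen.card_out_congr f]
  exact Cfsg.Agent.S2073.result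

end Cfsg.Agent.H831.DG.McLRow
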