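import Cfsg.Agent.H831.DG.CosTwo
import Cfsg.Agent.H994.TwoGen.Suz
import Cfsg.Agent.H997.OutSuz
import Cfsg.Agent.S2074

/-!
# S4180: `Cos2` for the Suzuki group (helper831)

`ρ` fixes `a, …, e` and swaps `f, g`; `Suz.2 = ⟨ρ · bc, (bfg)(de)⟩`.
-/

set_option autoImplicit false
set_option maxRecDepth 100000
set_option exponentiation.threshold 4000

namespace Cfsg.Agent.H831.DG.SuzRow

open Cfsg.Spor Cfsg.Agent.H440.TwoGen Cfsg.Agent.H891.DG Cfsg.Agent.Lib.PermNet
  Cfsg.Agent.SporadicRecognition.SuzPhi Cfsg.Agent.SporadicRecognition.SuzOrder Cfsg.Agent.KFacts.SuzRho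
  Cfsg.Agent.H831.DG.CosTwo

universe u

/-- the element of `Suz` of order 15 -/
def X : List Suz.Gen := [.b, .f, .g, .d, .e]

/-- the outer automorphism -/
noncomputable def al : MulAut Suz := rho * MulAut.conj (el [.b, .c])

/-- the group they generate -/
noncomputable def K : Subgroup Suz := cor al (el X)

theorem eq_of {v w : List Suz.Gen} (h : checkEq 11 (wd v) (wd w) = true) : el v = el w :=
  Cfsg.Agent.H994.TwoGen.Suz.eq_of h

theorem bc3 : el [.b, .c] ^ 3 = 1 := by
  have h : el ([.b, .c] ++ ([.b, .c] ++ [.b, .c])) = el [] := eq_of (by decide +kernel)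
  rw [Cfsg.Agent.H994.TwoGen.Suz.el_append, Cfsg.Agent.H994.TwoGen.Suz.el_append] at h
  have h1 : el ([] : List Suz.Gen) = 1 := by simp [el]
  rw [h1] at h
  rw [pow_succ, pow_two, mul_assoc]
  exact h

theorem rho_bc : rho (el [.b, .c]) = el [.b, .c] := by rw [rho_el]; rfl

theorem comm : MulAut.conj (el [.b, .c]) * rho = rho * MulAut.conj (el [.b, .c]) := by
  ext x
  change el [.b, .c] * rho x * (el [.b, .c])⁻¹ = rho (el [.b, .c] * x * (el [.b, .c])⁻¹)
  rw [map_mul, map_mul, map_inv, rho_bc]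

theorem rho2 : rho * rho = (1 : MulAut Suz) := rho_sq

theorem al3 : al ^ 3 = rho := by
  have h1 : (MulAut.conj (el [.b, .c])) ^ 3 = (1 : MulAut Suz) := by rw [← map_pow, bc3, map_one]
  have h2 : al ^ 3 = rho ^ 3 * (MulAut.conj (el [.b, .c])) ^ 3 := by
    unfold al
    exact (show Commute rho (MulAut.conj (el [.b, .c])) from comm.symm).mul_pow 3
  rw [h2, h1, mul_one, pow_succ, pow_two, rho2, one_mul]

theorem rho_mem : rho ∈ Subgroup.closure ({al, MulAut.conj (el X)} : Set (MulAut Suz)) := by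
  rw [← al3]
  exact pow_mem (Subgroup.subset_closure (by simp)) 3

theorem bc_mem : el [.b, .c] ∈ K := by
  rw [K, mem_cor]
  have h : MulAut.conj (el [.b, .c]) = rho * al := by
    unfold al
    rw [← mul_assoc, rho2, one_mul]
  rw [h]
  exact mul_mem rho_mem (Subgroup.subset_closure (by simp))

theorem hX : el X ∈ K := self_mem_cor _ _

theorem hrho {w : List Suz.Gen} (h : el w ∈ K) : el (w.map sw) ∈ K := by
  rw [← rho_el]
  exact apply_mem_cor rho_mem h

theorem app {v w : List Suz.Gen} (hv : el v ∈ K) (hw : el w ∈ K) : el (v ++ w) ∈ K := by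
  rw [Cfsg.Agent.H994.TwoGen.Suz.el_append]; exact K.mul_mem hv hw

theorem of_eq {u v : List Suz.Gen} (hu : el u ∈ K) (h : checkEq 11 (wd v) (wd u) = true) : el v ∈ K := by
  rw [eq_of h]; exact hu

theorem hx3 : el (X ++ X ++ X) ∈ K := app (app hX hX) hX
theorem hbfg : el [.b, .f, .g] ∈ K := of_eq (app hx3 hx3) (by decide +kernel)
theorem hD : el [.d, .e] ∈ K := of_eq (app (app (app hx3 hx3) hx3) hX) (by decide +kernel)
theorem hD' : el [.e, .d] ∈ K := of_eq (app hD hD) (by decide +kernel)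
theorem hbgf : el [.b, .g, .f] ∈ K := hrho hbfg
theorem ha : el [.a] ∈ K := of_eq (app (app (app (app hbfg hbfg) hbfg) hbfg) hbgf) (by decide +kernel)
theorem hbab : el [.b, .a, .b] ∈ K :=
  of_eq (app hbfg (app (app (app hbgf hbgf) hbgf) hbgf)) (by decide +kernel)
theorem habab : el [.a, .b, .a, .b] ∈ K := app ha hbab
theorem hab : el [.a, .b] ∈ K := of_eq (app (app habab habab) habab) (by decide +kernel)
theorem hb : el [.b] ∈ K := of_eq (app ha hab) (by decide +kernel)
theorem hc : el [.c] ∈ K := of_eq (app hb bc_mem) (by decide +kernel)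
theorem hfg : el [.f, .g] ∈ K := of_eq (app hb hbfg) (by decide +kernel)
theorem hgf : el [.g, .f] ∈ K := of_eq (app (app hfg hfg) hfg) (by decide +kernel)
theorem hf : el [.f] ∈ K :=
  of_eq (app hb (app hgf (app hb (app hfg (app hb (app ha (app hb (app hfg (app hb (app ha hb))))))))))
    (by decide +kernel)
theorem hg : el [.g] ∈ K := of_eq (app hf hfg) (by decide +kernel)

/-- letters `a, b, c, de, ed` -/
def lt : ℕ → List Suz.Gen
  | 0 => [.a]
  | 1 => [.b]
  | 2 => [.c]
  | 3 => [.d, .e]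
  | _ => [.e, .d]

/-- words in these letters -/
def ev : List ℕ → List Suz.Gen
  | [] => []
  | k :: l => lt k ++ ev l

theorem ev_mem : ∀ l : List ℕ, el (ev l) ∈ K
  | [] => by
    have h1 : el (ev []) = 1 := by simp [ev, el]
    rw [h1]
    exact K.one_mem
  | k :: l => app (by
      match k with
      | 0 => exact ha
      | 1 => exact hb
      | 2 => exact hc
      | 3 => exact hD
      | _ + 4 => exact hD') (ev_mem l)

theorem he : el [.e] ∈ K :=
  of_eq (ev_mem [4, 2, 3, 1, 2, 3, 2, 3, 1, 0, 1, 2, 4, 0, 1, 2, 4, 2, 4, 1, 0, 1, 2, 3, 0, 1, 2, 3, 2, 1, 0, 1, 0])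
    (by decide +kernel)
theorem hd : el [.d] ∈ K := of_eq (app hD he) (by decide +kernel)

theorem K_eq : K = ⊤ := by
  rw [eq_top_iff, ← PresentedGroup.closure_range_of, Subgroup.closure_le]
  rintro _ ⟨k, rfl⟩
  have h1 : ∀ k : Suz.Gen, el [k] = PresentedGroup.of k := fun k => by simp [el]
  rw [← h1 k]
  cases k
  · exact ha
  · exact hb
  · exact hc
  · exact hd
  · exact he
  · exact hf
  · exact hg

theorem al_outer (n : Suz) : al ≠ MulAut.conj n := by
  intro h
  apply Cfsg.Agent.H997.OutSuz.rho_outer (n * (el [.b, .c])⁻¹)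
  rw [map_mul, map_inv, ← h, al, mul_inv_cancel_right]

/-- **Row `Suz` of `Cos2`.** -/
theorem cos2_suz {T : Type u} [Group T] (h : Cfsg.Spor.IsoSuz T) : Cos2 T := by
  obtain ⟨e⟩ := h
  refine cos2_congr e.symm (cos2_of_cor Cfsg.Agent.S2074.result ?_ al_outer (el X) K_eq)
  exact Cfsg.Agent.H994.TwoGen.Suz.twoGen ⟨MulEquiv.refl _⟩

end Cfsg.Agent.H831.DG.SuzRow
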